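import Cfsg.Agent.H162.GaussSL
import Cfsg.Agent.ClassicalGeometry.PSL2Basic

/-!
# Products of two elements of prime order in `SL_2(q)` (helper267; S2465, lemma `P_2`)

`p_two_prime` : `ℓ ≥ 5` a prime divisor of `q² - 1`: every `L U` is a product of two elements of order `ℓ`;
`p_two` : for `q ≥ 4` divisible by `2` or `3` there is such a prime.
-/

set_option autoImplicit false

namespace Cfsg.Agent.H267.Ore.PTwo

open Matrix Polynomial
open Cfsg.Agent.H162.GaussSL (LT UT mem_LT mem_UT gc gc_mul gc_inv gc_pow coe_gc)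

variable {K : Type*} [Field K]

/-! ### Companion matrices -/

/-- the companion matrix of `X² - t X + 1` -/
def cm (t : K) : SpecialLinearGroup (Fin 2) K := ⟨!![0, -1; 1, t], by simp [det_fin_two]⟩

theorem exists_gc_of {A : SpecialLinearGroup (Fin 2) K} {p q r s : K} (hd : p * s - q * r ≠ 0)
    (h : A.1 * !![p, q; r, s] = !![p, q; r, s] * !![0, -1; 1, A.1 0 0 + A.1 1 1]) :
    ∃ P : GL (Fin 2) K, A = gc P (cm (A.1 0 0 + A.1 1 1)) := by
  have hdet : (!![p, q; r, s] : Matrix (Fin 2) (Fin 2) K).det ≠ 0 := by rwa [det_fin_two_of]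
  refine ⟨GeneralLinearGroup.mkOfDetNeZero _ hdet, Cfsg.Agent.H162.GaussSL.coe_inj ?_⟩
  rw [coe_gc, eq_mul_inv_iff_mul_eq]
  exact Units.ext h

/-- a nonscalar element of `SL_2` is conjugate to the companion matrix -/
theorem exists_gc {A : SpecialLinearGroup (Fin 2) K} (hA : ¬ (A.1 0 1 = 0 ∧ A.1 1 0 = 0 ∧ A.1 0 0 = A.1 1 1)) :
    ∃ P : GL (Fin 2) K, A = gc P (cm (A.1 0 0 + A.1 1 1)) := by
  have hdet : A.1 0 0 * A.1 1 1 - A.1 0 1 * A.1 1 0 = 1 := by rw [← det_fin_two]; exact A.2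
  by_cases hc : A.1 1 0 = 0
  · by_cases hb : A.1 0 1 = 0
    · have had : A.1 0 0 ≠ A.1 1 1 := fun h => hA ⟨hb, hc, h⟩
      refine exists_gc_of (p := 1) (q := A.1 0 0) (r := 1) (s := A.1 1 1) ?_ ?_
      · rw [one_mul, mul_one]
        exact sub_ne_zero.2 had.symm
      · rw [hb] at hdet
        ext i j
        fin_cases i <;> fin_cases j <;> simp [Matrix.mul_apply, Fin.sum_univ_two, hb, hc] <;>
          linear_combination -hdet
    · refine exists_gc_of (p := 0) (q := A.1 0 1) (r := 1) (s := A.1 1 1) ?_ ?_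
      · rw [zero_mul, mul_one, zero_sub]
        exact neg_ne_zero.2 hb
      · ext i j
        fin_cases i <;> fin_cases j <;> simp [Matrix.mul_apply, Fin.sum_univ_two]
        · ring
        · linear_combination -hdet
  · refine exists_gc_of (p := 1) (q := A.1 0 0) (r := 0) (s := A.1 1 0) ?_ ?_
    · rw [one_mul, mul_zero, sub_zero]
      exact hc
    · ext i j
      fin_cases i <;> fin_cases j <;> simp [Matrix.mul_apply, Fin.sum_univ_two]
      · linear_combination -hdet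
      · ring

/-- Cayley-Hamilton -/
theorem ch (A : SpecialLinearGroup (Fin 2) K) : A.1 * A.1 = (A.1 0 0 + A.1 1 1) • A.1 - 1 := by
  have hdet : A.1 0 0 * A.1 1 1 - A.1 0 1 * A.1 1 0 = 1 := by rw [← det_fin_two]; exact A.2
  ext i j
  fin_cases i <;> fin_cases j <;> simp [Matrix.mul_apply, Fin.sum_univ_two]
  · linear_combination -hdet
  · ring
  · ring
  · linear_combination -hdet

/-! ### Elements of prime order -/

/-- the trace -/
def tc (A : SpecialLinearGroup (Fin 2) K) : K := A.1 0 0 + A.1 1 1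

theorem tc_sq (A : SpecialLinearGroup (Fin 2) K) : tc (A * A) = tc A ^ 2 - 2 := by
  have h := ch A
  have e0 := congrFun (congrFun h 0) 0
  have e1 := congrFun (congrFun h 1) 1
  change (A.1 * A.1) 0 0 + (A.1 * A.1) 1 1 = (A.1 0 0 + A.1 1 1) ^ 2 - 2
  rw [e0, e1]
  simp
  ring

theorem ne_two {A : SpecialLinearGroup (Fin 2) K} {n : ℕ} (hn : (n : K) ≠ 0) (h : A ^ n = 1) (h1 : A ≠ 1) :
    tc A ≠ 2 := by
  intro ht
  have hc := ch A
  change A.1 * A.1 = tc A • A.1 - 1 at hc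
  rw [ht] at hc
  have key : ∀ k : ℕ, (A.1) ^ k = 1 + (k : K) • (A.1 - 1) := by
    intro k
    induction k with
    | zero => simp
    | succ k ih =>
      rw [pow_succ, ih, add_mul, one_mul, smul_mul_assoc, sub_mul, one_mul, hc]
      push_cast
      rw [add_smul, one_smul]
      ext i j
      simp
      ring
  have h2 := key n
  have h3 : (A.1) ^ n = 1 := by rw [← Matrix.SpecialLinearGroup.coe_pow, h, Matrix.SpecialLinearGroup.coe_one]
  rw [h3] at h2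
  have h4 : (n : K) • (A.1 - 1) = 0 := by
    have := h2.symm
    rwa [add_eq_left] at this
  have h5 : A.1 - 1 = 0 := (smul_eq_zero.1 h4).resolve_left hn
  exact h1 (Subtype.ext (sub_eq_zero.1 h5))

theorem cube_of_tc {A : SpecialLinearGroup (Fin 2) K} (h : tc A = -1) : A ^ 3 = 1 := by
  have hc := ch A
  change A.1 * A.1 = tc A • A.1 - 1 at hc
  rw [h] at hc
  have h1 : (A.1) ^ 3 = 1 := by
    rw [pow_succ, pow_two, hc, sub_mul, smul_mul_assoc, hc, one_mul]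
    ext i j
    simp
  exact Subtype.ext ((Matrix.SpecialLinearGroup.coe_pow A 3).trans h1)

theorem six_of_tc {A : SpecialLinearGroup (Fin 2) K} (h : tc A = 1) : A ^ 6 = 1 := by
  have hc := ch A
  change A.1 * A.1 = tc A • A.1 - 1 at hc
  rw [h, one_smul] at hc
  have h1 : (A.1) ^ 3 = -1 := by
    rw [pow_succ, pow_two, hc, sub_mul, hc, one_mul]
    abel
  have h2 : (A.1) ^ 6 = 1 := by
    rw [show 6 = 3 * 2 by norm_num, pow_mul, h1]
    simp
  exact Subtype.ext ((Matrix.SpecialLinearGroup.coe_pow A 6).trans h2)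

section prime

variable {ℓ : ℕ} (hℓ : ℓ.Prime) (h5 : 5 ≤ ℓ) (h0 : (ℓ : K) ≠ 0)

include hℓ h5 h0

/-- the traces of the elements of order `ℓ` -/
theorem tc_facts {A : SpecialLinearGroup (Fin 2) K} (hA : orderOf A = ℓ) :
    tc A ≠ 2 ∧ tc A ≠ -2 ∧ tc A ≠ tc (A * A) ∧ tc A ≠ -tc (A * A) := by
  have hA1 : A ≠ 1 := by
    rintro rfl
    rw [orderOf_one] at hA
    omega
  have hAl : A ^ ℓ = 1 := by rw [← hA, pow_orderOf_eq_one]
  have hB : A * A ≠ 1 := by
    intro h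
    have h1 : orderOf A ∣ 2 := orderOf_dvd_of_pow_eq_one (by rw [pow_two, h])
    rw [hA] at h1
    have := Nat.le_of_dvd (by norm_num) h1
    omega
  have hBl : (A * A) ^ ℓ = 1 := by rw [← pow_two, ← pow_mul, mul_comm, pow_mul, hAl, one_pow]
  have g1 := ne_two h0 hAl hA1
  have g2 := ne_two h0 hBl hB
  rw [tc_sq] at g2
  have d3 : ¬ ℓ ∣ 6 := by
    intro h
    have := Nat.le_of_dvd (by norm_num) h
    interval_cases ℓ
    · norm_num at h
    · exact absurd hℓ (by norm_num)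
  have g3 : tc A ≠ -1 := by
    intro h
    have h1 := orderOf_dvd_of_pow_eq_one (cube_of_tc h)
    rw [hA] at h1
    exact d3 (h1.trans (by norm_num))
  have g4 : tc A ≠ 1 := by
    intro h
    have h1 := orderOf_dvd_of_pow_eq_one (six_of_tc h)
    rw [hA] at h1
    exact d3 h1
  have g5 : tc A ≠ -2 := fun h => g2 (by rw [h]; ring)
  refine ⟨g1, g5, fun h => ?_, fun h => ?_⟩
  · rw [tc_sq] at h
    have h1 : (tc A - 2) * (tc A + 1) = 0 := by linear_combination -h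
    rcases mul_eq_zero.1 h1 with h2 | h2
    · exact g1 (sub_eq_zero.1 h2)
    · exact g3 (eq_neg_of_add_eq_zero_left h2)
  · rw [tc_sq] at h
    have h1 : (tc A + 2) * (tc A - 1) = 0 := by linear_combination h
    rcases mul_eq_zero.1 h1 with h2 | h2
    · exact g5 (eq_neg_of_add_eq_zero_left h2)
    · exact g4 (sub_eq_zero.1 h2)

/-- elements with the same trace have the same order -/
theorem order_of_tc {A B : SpecialLinearGroup (Fin 2) K} (hA : orderOf A = ℓ) (hB : tc B = tc A) : orderOf B = ℓ := by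
  obtain ⟨g1, g2, -, -⟩ := tc_facts hℓ h5 h0 hA
  have key : ∀ B : SpecialLinearGroup (Fin 2) K, tc B = tc A → ∃ P : GL (Fin 2) K, B = gc P (cm (tc A)) := by
    intro B hB
    rw [← hB]
    refine exists_gc ?_
    rintro ⟨h1, h2, h3⟩
    have hdet : B.1 0 0 * B.1 1 1 - B.1 0 1 * B.1 1 0 = 1 := by rw [← det_fin_two]; exact B.2
    rw [h1, h2, h3, mul_zero, sub_zero] at hdet
    have h4 : (B.1 1 1 - 1) * (B.1 1 1 + 1) = 0 := by linear_combination hdet
    rw [← hB] at g1 g2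
    have hB' : tc B = B.1 1 1 + B.1 1 1 := by
      change B.1 0 0 + B.1 1 1 = _
      rw [h3]
    rcases mul_eq_zero.1 h4 with h5 | h5
    · exact g1 (by rw [hB', sub_eq_zero.1 h5]; ring)
    · exact g2 (by rw [hB', eq_neg_of_add_eq_zero_left h5]; ring)
  obtain ⟨P, hP⟩ := key A rfl
  obtain ⟨Q, hQ⟩ := key B hB
  have h1 : B ^ ℓ = 1 := by
    have h2 : gc P (cm (tc A) ^ ℓ) = 1 := by rw [gc_pow, ← hP, ← hA, pow_orderOf_eq_one]
    have h3 : cm (tc A) ^ ℓ = 1 := by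
      apply Cfsg.Agent.H162.GaussSL.coe_inj
      have h4 := congrArg (fun g : SpecialLinearGroup (Fin 2) K => (g : GL (Fin 2) K)) h2
      simp only [coe_gc, map_one] at h4
      rw [map_one]
      have h5 : ((cm (tc A) ^ ℓ : SpecialLinearGroup (Fin 2) K) : GL (Fin 2) K) = P⁻¹ * (P * ((cm (tc A) ^ ℓ :
        SpecialLinearGroup (Fin 2) K) : GL (Fin 2) K) * P⁻¹) * P := by group
      rw [h5, h4]
      group
    rw [hQ, ← gc_pow, h3]
    apply Cfsg.Agent.H162.GaussSL.coe_inj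
    rw [coe_gc, map_one]
    group
  have h2 : B ≠ 1 := by
    rintro rfl
    apply g1
    rw [← hB]
    change (1 : K) + 1 = 2
    norm_num
  exact orderOf_eq_prime h1 h2 (hp := ⟨hℓ⟩)

end prime

/-! ### The conic -/

theorem exists_conic [Finite K] {α β γ : K} (h1 : α ≠ β) (h2 : α ≠ -β) :
    ∃ a b : K, a * (α - a) - b * (β + b - a * γ) = 1 := by
  by_cases hγ : γ = 2
  · have h3 : α - β ≠ 0 := sub_ne_zero.2 h1
    refine ⟨(α - β)⁻¹, (α - β)⁻¹, ?_⟩
    rw [hγ]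
    field_simp
    ring
  by_cases hγ' : γ = -2
  · have h3 : α + β ≠ 0 := fun h => h2 (eq_neg_of_add_eq_zero_left h)
    refine ⟨(α + β)⁻¹, -(α + β)⁻¹, ?_⟩
    rw [hγ']
    field_simp
    ring
  cases nonempty_fintype K
  by_cases hc : ringChar K = 2
  · have hch : CharP K 2 := by rw [← hc]; exact ringChar.charP K
    have h20 : (2 : K) = 0 := by
      have := CharP.cast_eq_zero K 2
      exact_mod_cast this
    have hγ0 : γ ≠ 0 := by rwa [h20] at hγ
    obtain ⟨b, hb⟩ := FiniteField.isSquare_of_char_two hc (β / γ * (α - β / γ) - 1)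
    refine ⟨β / γ, b, ?_⟩
    have h3 : β / γ * γ = β := div_mul_cancel₀ β hγ0
    rw [h3]
    linear_combination hb
  · have h20 : (2 : K) ≠ 0 := Ring.two_ne_zero hc
    have hodd : Fintype.card K % 2 = 1 := FiniteField.odd_card_of_char_ne_two hc
    obtain ⟨δ, rfl⟩ : ∃ δ, γ = 2 * δ := ⟨γ / 2, (mul_div_cancel₀ γ h20).symm⟩
    have hlc : 1 - δ ^ 2 ≠ 0 := by
      intro h
      have h3 : (δ - 1) * (δ + 1) = 0 := by linear_combination -h
      rcases mul_eq_zero.1 h3 with h4 | h4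
      · exact hγ (by rw [sub_eq_zero.1 h4, mul_one])
      · exact hγ' (by rw [eq_neg_of_add_eq_zero_left h4]; ring)
    obtain ⟨s, b, hsb⟩ := FiniteField.exists_root_sum_quadratic (R := K)
      (f := C 1 * X ^ 2 + C (-α) * X + C 0) (g := C (1 - δ ^ 2) * X ^ 2 + C (β - α * δ) * X + C 1)
      (degree_quadratic one_ne_zero) (degree_quadratic hlc) hodd
    refine ⟨s + δ * b, b, ?_⟩
    simp only [eval_add, eval_mul, eval_C, eval_pow, eval_X] at hsb
    linear_combination -hsb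

/-- **Factorisation with given traces.** -/
theorem exists_factor [Finite K] {α β : K} (h1 : α ≠ β) (h2 : α ≠ -β) {A : SpecialLinearGroup (Fin 2) K}
    (hA : ¬ (A.1 0 1 = 0 ∧ A.1 1 0 = 0 ∧ A.1 0 0 = A.1 1 1)) :
    ∃ x y : SpecialLinearGroup (Fin 2) K, A = x * y ∧ tc x = α ∧ tc y = β := by
  obtain ⟨P, hP⟩ := exists_gc hA
  obtain ⟨a, b, hab⟩ := exists_conic (γ := A.1 0 0 + A.1 1 1) h1 h2
  set γ := A.1 0 0 + A.1 1 1 with hγ
  let x₀ : SpecialLinearGroup (Fin 2) K := ⟨!![a, b; β + b - a * γ, α - a], by rw [det_fin_two_of]; exact hab⟩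
  have hx : tc x₀ = α := by
    change a + (α - a) = α
    ring
  have hy : tc (x₀⁻¹ * cm γ) = β := by
    have e : (x₀⁻¹ * cm γ).1 = !![α - a, -b; -(β + b - a * γ), a] * !![0, -1; 1, γ] := by
      have h3 : (x₀⁻¹).1 = !![α - a, -b; -(β + b - a * γ), a] := by
        have h4 : (x₀⁻¹).1 = x₀.1.adjugate := rfl
        rw [h4, adjugate_fin_two]
        rfl
      change (x₀⁻¹).1 * (cm γ).1 = _
      rw [h3]
      rfl
    change (x₀⁻¹ * cm γ).1 0 0 + (x₀⁻¹ * cm γ).1 1 1 = β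
    rw [e]
    simp [Matrix.mul_apply, Fin.sum_univ_two]
  have htc : ∀ z : SpecialLinearGroup (Fin 2) K, tc (gc P z) = tc z := by
    intro z
    have h3 : ∀ w : SpecialLinearGroup (Fin 2) K, tc w = w.1.trace := fun w => (trace_fin_two _).symm
    rw [h3, h3]
    change (P.1 * z.1 * (P⁻¹).1).trace = _
    rw [trace_mul_comm, ← Matrix.mul_assoc]
    have h4 : (P⁻¹).1 * P.1 = 1 := by rw [← Units.val_mul, inv_mul_cancel, Units.val_one]
    rw [h4, Matrix.one_mul]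
  refine ⟨gc P x₀, gc P (x₀⁻¹ * cm γ), ?_, by rw [htc, hx], by rw [htc, hy]⟩
  rw [← gc_mul, mul_inv_cancel_left]
  exact hP

/-! ### The theorems -/

theorem exists_elt [Finite K] {ℓ : ℕ} (hℓ : ℓ.Prime) (hd : ℓ ∣ Nat.card K ^ 2 - 1) :
    ∃ g : SpecialLinearGroup (Fin 2) K, orderOf g = ℓ := by
  cases nonempty_fintype K
  have : Fact ℓ.Prime := ⟨hℓ⟩
  have h1 : ℓ ∣ Nat.card (SpecialLinearGroup (Fin 2) K) := by
    rw [Cfsg.Agent.ClassicalGeometry.PSL2Basic.card_SL2, ← Nat.card_eq_fintype_card]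
    exact hd.mul_left _
  exact exists_prime_orderOf_dvd_card' ℓ h1

theorem cast_ne_zero [Finite K] {ℓ : ℕ} (hℓ : ℓ.Prime) (hd : ℓ ∣ Nat.card K ^ 2 - 1) : (ℓ : K) ≠ 0 := by
  cases nonempty_fintype K
  obtain ⟨p, hp⟩ := CharP.exists K
  have hpp : p.Prime := (CharP.char_is_prime_or_zero K p).resolve_right (CharP.char_ne_zero_of_finite K p)
  have : Fact p.Prime := ⟨hpp⟩
  intro h
  rw [CharP.cast_eq_zero_iff K p] at h
  have h1 := (Nat.prime_dvd_prime_iff_eq hpp hℓ).1 h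
  obtain ⟨n, -, hn⟩ := FiniteField.card K p
  rw [Nat.card_eq_fintype_card, hn, ← h1] at hd
  have h2 : p ∣ (p ^ (n : ℕ)) ^ 2 := dvd_pow (dvd_pow_self p n.pos.ne') two_ne_zero
  have h3 : 1 ≤ (p ^ (n : ℕ)) ^ 2 := Nat.one_le_iff_ne_zero.2 (pow_ne_zero _ (pow_ne_zero _ hpp.ne_zero))
  have h4 : p ∣ 1 := by
    have := Nat.dvd_sub h2 hd
    rwa [Nat.sub_sub_self h3] at this
  exact hpp.one_lt.ne' (Nat.dvd_one.1 h4)

/-- **Products of two elements of prime order `ℓ ≥ 5`.** -/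
theorem p_two_prime [Finite K] {ℓ : ℕ} (hℓ : ℓ.Prime) (h5 : 5 ≤ ℓ) (hd : ℓ ∣ Nat.card K ^ 2 - 1)
    {A : SpecialLinearGroup (Fin 2) K} (hA : A = 1 ∨ ¬ (A.1 0 1 = 0 ∧ A.1 1 0 = 0 ∧ A.1 0 0 = A.1 1 1)) :
    ∃ x y : SpecialLinearGroup (Fin 2) K, A = x * y ∧ orderOf x = ℓ ∧ orderOf y = ℓ := by
  obtain ⟨g, hg⟩ := exists_elt (K := K) hℓ hd
  have h0 := cast_ne_zero (K := K) hℓ hd
  rcases hA with rfl | hA
  · exact ⟨g, g⁻¹, by rw [mul_inv_cancel], hg, by rw [orderOf_inv, hg]⟩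
  · obtain ⟨-, -, h1, h2⟩ := tc_facts hℓ h5 h0 hg
    obtain ⟨x, y, e, hx, hy⟩ := exists_factor h1 h2 hA
    have hgg : orderOf (g * g) = ℓ := by
      have hcop : (orderOf g).Coprime 2 := by
        rw [hg]
        exact (Nat.coprime_primes hℓ Nat.prime_two).2 (by omega)
      rw [← pow_two, hcop.orderOf_pow, hg]
    exact ⟨x, y, e, order_of_tc hℓ h5 h0 hg hx, order_of_tc hℓ h5 h0 hgg hy⟩

theorem nonscalar_LU {L U : SpecialLinearGroup (Fin 2) K} (hL : L ∈ LT 2 K) (hU : U ∈ UT 2 K) :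
    L * U = 1 ∨ ¬ ((L * U).1 0 1 = 0 ∧ (L * U).1 1 0 = 0 ∧ (L * U).1 0 0 = (L * U).1 1 1) := by
  rw [mem_LT] at hL
  rw [mem_UT] at hU
  have e : (L * U).1 = !![1, U.1 0 1; L.1 1 0, 1 + L.1 1 0 * U.1 0 1] := by
    change L.1 * U.1 = _
    ext i j
    fin_cases i <;> fin_cases j <;> simp [Matrix.mul_apply, Fin.sum_univ_two, hL.2, hU.2, hL.1 0 1 (by decide),
      hU.1 1 0 (by decide), add_comm]
  by_cases h : (L * U).1 0 1 = 0 ∧ (L * U).1 1 0 = 0
  · left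
    apply Subtype.ext
    rw [e] at h
    change U.1 0 1 = 0 ∧ L.1 1 0 = 0 at h
    rw [e, h.1, h.2]
    ext i j
    fin_cases i <;> fin_cases j <;> simp
  · right
    exact fun h' => h ⟨h'.1, h'.2.1⟩

/-- a prime divisor `ℓ ≥ 5` of `q² - 1` -/
theorem exists_prime {q : ℕ} (hq : 4 ≤ q) (h : 2 ∣ q ∨ 3 ∣ q) : ∃ ℓ : ℕ, ℓ.Prime ∧ 5 ≤ ℓ ∧ ℓ ∣ q ^ 2 - 1 := by
  have key : ∀ m : ℕ, 1 < m → ¬ 2 ∣ m → ¬ 3 ∣ m → m ∣ q ^ 2 - 1 → ∃ ℓ : ℕ, ℓ.Prime ∧ 5 ≤ ℓ ∧ ℓ ∣ q ^ 2 - 1 := by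
    intro m hm h2 h3 hmq
    have hp := Nat.minFac_prime (n := m) (by omega)
    refine ⟨m.minFac, hp, ?_, (Nat.minFac_dvd m).trans hmq⟩
    by_contra hlt
    have h2' := hp.two_le
    have hd := Nat.minFac_dvd m
    have h4 : m.minFac = 2 ∨ m.minFac = 3 ∨ m.minFac = 4 := by omega
    rcases h4 with h4 | h4 | h4
    · exact h2 (h4 ▸ hd)
    · exact h3 (h4 ▸ hd)
    · rw [h4] at hp; exact absurd hp (by norm_num)
  have e : q ^ 2 - 1 = (q - 1) * (q + 1) := by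
    obtain ⟨k, rfl⟩ : ∃ k, q = k + 1 := ⟨q - 1, by omega⟩
    have : (k + 1) ^ 2 = k * (k + 1 + 1) + 1 := by ring
    rw [this, Nat.add_sub_cancel, Nat.add_sub_cancel]
  by_cases hq2 : 2 ∣ q
  · by_cases h3 : 3 ∣ q - 1
    · exact key (q + 1) (by omega) (by omega) (by omega) (by rw [e]; exact Dvd.intro_left _ rfl)
    · exact key (q - 1) (by omega) (by omega) h3 (by rw [e]; exact Dvd.intro _ rfl)
  · have hq3 : 3 ∣ q := h.resolve_left hq2
    obtain ⟨k, hk⟩ : ∃ k, q = 2 * k + 1 := ⟨q / 2, by omega⟩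
    have e1 : q - 1 = 2 * k := by omega
    have e2 : q + 1 = 2 * (k + 1) := by omega
    by_cases hk2 : 2 ∣ k
    · exact key (k + 1) (by omega) (by omega) (by omega) (by
        rw [e, e2]; exact Dvd.dvd.mul_left (Dvd.intro_left _ rfl) _)
    · exact key k (by omega) hk2 (by omega) (by
        rw [e, e1]; exact Dvd.dvd.mul_right (Dvd.intro_left _ rfl) _)

/-- **Lemma `P_2`.** -/
theorem p_two [Finite K] (hq : 4 ≤ Nat.card K) (h : 2 ∣ Nat.card K ∨ 3 ∣ Nat.card K) :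
    ∃ ℓ : ℕ, ℓ.Prime ∧ 5 ≤ ℓ ∧ ℓ ∣ Nat.card K ^ 2 - 1 ∧ ∀ L ∈ LT 2 K, ∀ U ∈ UT 2 K,
      ∃ x y : SpecialLinearGroup (Fin 2) K, L * U = x * y ∧ orderOf x = ℓ ∧ orderOf y = ℓ := by
  obtain ⟨ℓ, hℓ, h5, hd⟩ := exists_prime hq h
  exact ⟨ℓ, hℓ, h5, hd, fun L hL U hU => p_two_prime hℓ h5 hd (nonscalar_LU hL hU)⟩

/-- `P_2`, orders prime to `6` -/
theorem p_two_six [Finite K] (hq : 4 ≤ Nat.card K) (h : 2 ∣ Nat.card K ∨ 3 ∣ Nat.card K) :
    ∀ L ∈ LT 2 K, ∀ U ∈ UT 2 K, ∃ x y : SpecialLinearGroup (Fin 2) K, L * U = x * y ∧ x ≠ 1 ∧ y ≠ 1 ∧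
      (orderOf x).Coprime 6 ∧ (orderOf y).Coprime 6 := by
  obtain ⟨ℓ, hℓ, h5, -, h1⟩ := p_two (K := K) hq h
  have h6 : Nat.Coprime ℓ 6 := by
    rw [show 6 = 2 * 3 by norm_num]
    exact Nat.Coprime.mul_right ((Nat.coprime_primes hℓ Nat.prime_two).2 (by omega))
      ((Nat.coprime_primes hℓ Nat.prime_three).2 (by omega))
  intro L hL U hU
  obtain ⟨x, y, e, hx, hy⟩ := h1 L hL U hU
  refine ⟨x, y, e, ?_, ?_, hx ▸ h6, hy ▸ h6⟩
  · rintro rfl
    rw [orderOf_one] at hx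
    omega
  · rintro rfl
    rw [orderOf_one] at hy
    omega

end Cfsg.Agent.H267.Ore.PTwo
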