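import Cfsg.Agent.H267.Ore.ESevenTwo
import Cfsg.Agent.H78.Pw.Base

/-!
# `E₇(2)`: products of two elements of order prime to `n`, `127 ∤ n` (helper267; S2465)
-/

set_option autoImplicit false

namespace Cfsg.Agent.H267.Ore

open Cfsg.Lie Cfsg.Agent.H78.Pw

/-- **`All n` for `E₇(2)`**, `n` prime to `127`. -/
theorem all_E7_two {K : Type*} [Field K] [Fintype K] (hK : Fintype.card K = 2) {n : ℕ} (hn : Nat.Coprime 127 n) :
    All n ↥(chevE7.group K) := by
  intro g
  obtain ⟨a, b, e, ha, hb⟩ := pair_E7_two hK g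
  exact ⟨a, b, e, Nat.Coprime.of_dvd_left (orderOf_dvd_of_pow_eq_one ha) hn,
    Nat.Coprime.of_dvd_left (orderOf_dvd_of_pow_eq_one hb) hn⟩

/-- **(I) for `E₇(2)`.** -/
theorem six_E7_two {K : Type*} [Field K] [Fintype K] (hK : Fintype.card K = 2) : All 6 ↥(chevE7.group K) :=
  all_E7_two hK (by norm_num)

end Cfsg.Agent.H267.Ore
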