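import Cfsg.Agent.H374.Ore.Nf
import Cfsg.Agent.H194.Ore.Diag
import Cfsg.Agent.H584.Ore.Tab

/-!
# Fixed points for `E₆(2)` (S2443, S4171)

`c₀ = φ(XX0) · sl₀(w) sl₅(w)` (an element of order `21` of `SL₃(2) × SL₂(2) × SL₂(2)`) has no fixed points on the
unipotent radicals of the parabolic subgroups of type `J = {0, 1, 3, 5}`: it is diagonalisable over the field with 64
elements and the values `ν^e ω^f` (`ν` of order 7, `ω` of order 3) of the roots outside `J` are different from one.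
-/

set_option autoImplicit false
set_option linter.unusedSectionVars false

namespace Cfsg.Agent.H267.Ore.ESix

open CoxeterSystem Cfsg.Agent.ChevalleyStructure.CoxeterGeom Cfsg.Agent.Tits.Roots Cfsg.Agent.Tits.Core
  Cfsg.Agent.Nodes.Reps Cfsg.Agent.Nodes.BNOf Cfsg.Agent.Nodes.RGDLib Cfsg.Agent.Nodes.Bruhat
  Cfsg.Agent.Nodes.OppDec Cfsg.Agent.Nodes.LeviDec Cfsg.Agent.Nodes.KindChev Cfsg.Agent.Nodes.ChevCls
  Cfsg.Agent.OddHalf.NI.ModelChev Cfsg.Agent.Nodes.StabComb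
  Cfsg.Agent.H162.GaussDec Cfsg.Agent.H162.GaussLevi Cfsg.Agent.H162.GaussSL Cfsg.Agent.H162.GaussReg
  Cfsg.Agent.H928.Ore.Frame Cfsg.Agent.H928.Ore.Fix Cfsg.Agent.H928.Ore.Block Cfsg.Agent.H374.Ore.Nf
open Cfsg.Lie Cfsg.Agent.ChevalleyStructure Cfsg.Agent.ChevalleyStructure.Elts
  Cfsg.Agent.ChevalleyStructure.RootVec Cfsg.Agent.ChevalleyStructure.NPerm
  Cfsg.Agent.ChevalleyStructure.CoxeterGeomTypes Cfsg.Agent.Nodes.RGDChev Cfsg.Agent.KFacts.RgdChevCoord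
open Cfsg.Agent.FixBN.FieldRGD (uu vv dd ww)
open Cfsg.Agent.TitsThree.KExcBase (comm_nil)
open Cfsg.Agent.H162.GaussExcMain (r6)
open Cfsg.Agent.H194.Ore (exists_diag)
open Polynomial (X C)

universe u v

/-! ### Commuting blocks -/

/-- orthogonal roots -/
def Ort (D : ChevalleyDatum) (r s : ℕ) : Prop :=
  r < D.nroots ∧ s < D.nroots ∧ s ≠ r ∧ s ≠ D.neg r ∧ D.commTerms r s = []

instance (D : ChevalleyDatum) (r s : ℕ) : Decidable (Ort D r s) := by unfold Ort; infer_instance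

section

variable {D : ChevalleyDatum} {l : ℕ} {M : CoxeterMatrix (Fin l)} (hp : IsType D l M) {K : Type u} [Field K]

theorem comm_xc {r s : ℕ} (h : Ort D r s) (t u : K) :
    xc hp (vec D l r) t * xc hp (vec D l s) u = xc hp (vec D l s) u * xc hp (vec D l r) t := by
  apply Subtype.ext
  rw [Subgroup.coe_mul, Subgroup.coe_mul, coe_xc hp h.1, coe_xc hp h.2.1]
  exact comm_nil hp.inList h.1 h.2.1 h.2.2.1 h.2.2.2.1 h.2.2.2.2 t u

/-- homomorphisms with commuting root elements commute -/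
theorem comm_homs {Y : Type*} [Group Y] {n m : ℕ} {Φ : Matrix.SpecialLinearGroup (Fin n) K →* Y}
    {Ψ : Matrix.SpecialLinearGroup (Fin m) K →* Y}
    (h : ∀ a b (hab : a ≠ b) c a' b' (hab' : a' ≠ b') c', Φ (Matrix.SpecialLinearGroup.transvection hab c) *
      Ψ (Matrix.SpecialLinearGroup.transvection hab' c') = Ψ (Matrix.SpecialLinearGroup.transvection hab' c') *
      Φ (Matrix.SpecialLinearGroup.transvection hab c)) (A : Matrix.SpecialLinearGroup (Fin n) K)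
    (B : Matrix.SpecialLinearGroup (Fin m) K) : Commute (Φ A) (Ψ B) := by
  have h1 : ∀ a b (hab : a ≠ b) c (B : Matrix.SpecialLinearGroup (Fin m) K),
      Φ (Matrix.SpecialLinearGroup.transvection hab c) * Ψ B =
        Ψ B * Φ (Matrix.SpecialLinearGroup.transvection hab c) := by
    intro a b hab c B
    have h2 : (MulAut.conj (Φ (Matrix.SpecialLinearGroup.transvection hab c))).toMonoidHom.comp Ψ = Ψ := by
      refine hom_ext fun a' b' hab' c' => ?_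
      change Φ _ * Ψ _ * (Φ _)⁻¹ = Ψ _
      rw [h a b hab c a' b' hab' c', mul_inv_cancel_right]
    have h3 := DFunLike.congr_fun h2 B
    change Φ _ * Ψ B * (Φ _)⁻¹ = Ψ B at h3
    rwa [mul_inv_eq_iff_eq_mul] at h3
  have h2 : (MulAut.conj (Ψ B)).toMonoidHom.comp Φ = Φ := by
    refine hom_ext fun a b hab c => ?_
    change Ψ B * Φ _ * (Ψ B)⁻¹ = Φ _
    rw [← h1 a b hab c B, mul_inv_cancel_right]
  have h3 := DFunLike.congr_fun h2 A
  change Ψ B * Φ A * (Ψ B)⁻¹ = Φ A at h3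
  rw [mul_inv_eq_iff_eq_mul] at h3
  exact h3.symm

/-- the roots of the rank one block -/
def rk (D : ChevalleyDatum) (k : ℕ) : Fin 2 → Fin 2 → ℕ := ![![0, D.simple k], ![D.neg (D.simple k), 0]]

theorem sl_tv (k : Fin l) (a b : Fin 2) (hab : a ≠ b) (c : K) :
    sl hp k (Matrix.SpecialLinearGroup.transvection hab c) = xc hp (vec D l (rk D k a b)) (((1 : ℤ) : K) * c) := by
  have hk := simple_lt hp.inList (lt_rank hp k)
  rw [Int.cast_one, one_mul]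
  fin_cases a <;> fin_cases b
  · exact absurd rfl hab
  · rw [tv_uu, sl_uu, ← vec_simple hp k]; rfl
  · rw [tv_vv, sl_vv, ← vec_simple hp k, ← vec_neg hp hk]; rfl
  · exact absurd rfl hab

theorem comm_blocks {n m : ℕ} {r : Fin n → Fin n → ℕ} {r' : Fin m → Fin m → ℕ} {ε ε' : ℤ}
    {Φ : Matrix.SpecialLinearGroup (Fin n) K →* ↥(D.group K)} {Ψ : Matrix.SpecialLinearGroup (Fin m) K →* ↥(D.group K)}
    (hΦ : ∀ a b (hab : a ≠ b) c, Φ (Matrix.SpecialLinearGroup.transvection hab c) = xc hp (vec D l (r a b)) ((ε : K) * c))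
    (hΨ : ∀ a b (hab : a ≠ b) c, Ψ (Matrix.SpecialLinearGroup.transvection hab c) =
      xc hp (vec D l (r' a b)) ((ε' : K) * c))
    (h : ∀ a b a' b', a ≠ b → a' ≠ b' → Ort D (r a b) (r' a' b')) (A : Matrix.SpecialLinearGroup (Fin n) K)
    (B : Matrix.SpecialLinearGroup (Fin m) K) : Commute (Φ A) (Ψ B) :=
  comm_homs (fun a b hab c a' b' hab' c' => by
    rw [hΦ, hΨ]
    exact comm_xc hp (h a b a' b' hab hab') _ _) A B

end

/-! ### The tables -/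

/-- the nodes -/
def jL : List (Fin 6) := [0, 1, 3, 5]

theorem tabO : (∀ a b a' b', a ≠ b → a' ≠ b' → Ort chevE6 (r6 a b) (rk chevE6 0 a' b')) ∧
    (∀ a b a' b', a ≠ b → a' ≠ b' → Ort chevE6 (r6 a b) (rk chevE6 5 a' b')) ∧
    (∀ a b a' b', a ≠ b → a' ≠ b' → Ort chevE6 (rk chevE6 0 a b) (rk chevE6 5 a' b')) := by decide +kernel

/-- the roots lie in the span of `J` -/
def InJ {n : ℕ} (r : Fin n → Fin n → ℕ) : Prop :=
  ∀ a b : Fin n, a ≠ b → ∀ k : Fin 6, k ∉ jL → vec chevE6 6 (r a b) k = 0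

instance {n : ℕ} (r : Fin n → Fin n → ℕ) : Decidable (InJ r) := by unfold InJ; infer_instance

theorem tabJ : InJ r6 ∧ InJ (rk chevE6 0) ∧ InJ (rk chevE6 5) := by decide +kernel

theorem tabR : (∀ a b, a ≠ b → r6 a b < chevE6.nroots ∧ r6 b a = chevE6.neg (r6 a b)) ∧
    (∀ a b, a ≠ b → rk chevE6 0 a b < chevE6.nroots) ∧ (∀ a b, a ≠ b → rk chevE6 5 a b < chevE6.nroots) ∧
    r6 0 1 = chevE6.simple (3 : Fin 6) ∧ r6 1 2 = chevE6.simple (1 : Fin 6) := by decide +kernel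

theorem tabW : ∀ s < chevE6.nroots, (∃ k : Fin 6, k ∉ jL ∧ vec chevE6 6 s k ≠ 0) →
    ¬ ((7 : ℤ) ∣ chevE6.cartan 3 s + 3 * chevE6.cartan 1 s ∧ (3 : ℤ) ∣ chevE6.cartan 0 s + chevE6.cartan 5 s) := by
  decide +kernel

theorem mem_jL {k : Fin 6} : k ∈ ({0, 1, 3, 5} : Set (Fin 6)) ↔ k ∈ jL := by
  simp [jL]

/-! ### Over the large field -/

section

variable {K' : Type u} [Field K'] [Finite K']

theorem nf_big (hp : IsType chevE6 6 CoxeterMatrix.E₆) {φ : Matrix.SpecialLinearGroup (Fin 3) K' →* ↥(chevE6.group K')}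
    (hφ : ∀ a b (hab : a ≠ b) c, φ (Matrix.SpecialLinearGroup.transvection hab c) =
      xc hp (vec chevE6 6 (r6 a b)) (((1 : ℤ) : K') * c)) {ν ω : K'ˣ} (hν : orderOf ν = 7) (hω : orderOf ω = 3)
    (P : Matrix.SpecialLinearGroup (Fin 3) K') (Q : Matrix.SpecialLinearGroup (Fin 2) K') :
    NF (VJ CoxeterMatrix.E₆.toCoxeterSystem hp.isCartan (XX chevE6 6 K') {0, 1, 3, 5})
      (φ (P * dg3 ν (ν ^ 3) * P⁻¹) * (sl hp 0 (Q * dd (ω : K') ω.ne_zero * Q⁻¹) *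
        sl hp 5 (Q * dd (ω : K') ω.ne_zero * Q⁻¹))) ∧
    NF (VNJ CoxeterMatrix.E₆.toCoxeterSystem hp.isCartan (XX chevE6 6 K') {0, 1, 3, 5})
      (φ (P * dg3 ν (ν ^ 3) * P⁻¹) * (sl hp 0 (Q * dd (ω : K') ω.ne_zero * Q⁻¹) *
        sl hp 5 (Q * dd (ω : K') ω.ne_zero * Q⁻¹))) := by
  obtain ⟨p, hpc⟩ := CharP.exists K'
  have : Fact p.Prime := ⟨(CharP.char_is_prime_or_zero K' p).resolve_right (CharP.char_ne_zero_of_finite K' p)⟩
  have := finite_W hp CoxeterMatrix.E₆.toCoxeterSystem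
  have h05 : ∀ A B, Commute (sl hp (K := K') 0 A) (sl hp 5 B) :=
    comm_blocks hp (ε := 1) (ε' := 1) (sl_tv hp 0) (sl_tv hp 5) tabO.2.2
  have hφ0 : ∀ A B, Commute (φ A) (sl hp 0 B) := comm_blocks hp (ε := 1) (ε' := 1) hφ (sl_tv hp 0) tabO.1
  have hφ5 : ∀ A B, Commute (φ A) (sl hp 5 B) := comm_blocks hp (ε := 1) (ε' := 1) hφ (sl_tv hp 5) tabO.2.1
  let Ψ : Matrix.SpecialLinearGroup (Fin 2) K' × Matrix.SpecialLinearGroup (Fin 2) K' →* ↥(chevE6.group K') :=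
    (sl hp 0).noncommCoprod (sl hp 5) h05
  have hΨ : ∀ A B, Ψ (A, B) = sl hp 0 A * sl hp 5 B := fun A B => rfl
  let Θ : Matrix.SpecialLinearGroup (Fin 3) K' × (Matrix.SpecialLinearGroup (Fin 2) K' ×
      Matrix.SpecialLinearGroup (Fin 2) K') →* ↥(chevE6.group K') :=
    φ.noncommCoprod Ψ fun A B => (hφ0 A B.1).mul_right (hφ5 A B.2)
  have hΘ : ∀ A B C, Θ (A, (B, C)) = φ A * (sl hp 0 B * sl hp 5 C) := fun A B C => rfl
  let σ : Fin 6 → K'ˣ := ![ω, ν ^ 3, 1, ν, 1, ω]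
  have hσ : th hp σ = φ (dg3 ν (ν ^ 3)) * (sl hp 0 (dd (ω : K') ω.ne_zero) * sl hp 5 (dd (ω : K') ω.ne_zero)) := by
    rw [phi_dg3 hp (ε := 1) (by norm_num) (fun a b hab => (tabR.1 a b hab).1) (fun a b hab => (tabR.1 a b hab).2) hφ
      tabR.2.2.2.1 tabR.2.2.2.2, ← th_mulSingle, ← th_mulSingle, ← map_mul, ← map_mul]
    congr 1
    funext k
    fin_cases k <;> simp [σ, Pi.mulSingle, Function.update]
  have hmem : Θ (P, (Q, Q)) ∈ LJ CoxeterMatrix.E₆.toCoxeterSystem hp.isCartan (TT chevE6 K') (XX chevE6 6 K')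
      ({0, 1, 3, 5} : Set (Fin 6)) := by
    rw [hΘ]
    refine mul_mem ?_ (mul_mem ?_ ?_)
    · exact phi_mem hp (ε := 1) (fun a b hab => (tabR.1 a b hab).1) hφ
        (fun a b hab k hk => tabJ.1 a b hab k fun h => hk (mem_jL.2 h)) P
    · exact phi_mem hp (ε := 1) tabR.2.1 (sl_tv hp 0)
        (fun a b hab k hk => tabJ.2.1 a b hab k fun h => hk (mem_jL.2 h)) Q
    · exact phi_mem hp (ε := 1) tabR.2.2.1 (sl_tv hp 5)
        (fun a b hab k hk => tabJ.2.2 a b hab k fun h => hk (mem_jL.2 h)) Q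
  have e : φ (P * dg3 ν (ν ^ 3) * P⁻¹) * (sl hp 0 (Q * dd (ω : K') ω.ne_zero * Q⁻¹) *
        sl hp 5 (Q * dd (ω : K') ω.ne_zero * Q⁻¹)) = Θ (P, (Q, Q)) * th hp σ * (Θ (P, (Q, Q)))⁻¹ := by
    rw [hσ, ← hΘ, ← hΘ, ← map_inv, ← map_mul, ← map_mul]
    rfl
  rw [e]
  have hth : th hp σ ∈ TT chevE6 K' := (thT hp σ).2
  refine nf_conj (rgd (K := K') hp CoxeterMatrix.E₆.toCoxeterSystem p) hth (noFix_ch hp hth fun s hs hk => ?_) hmem
  rw [ch_th hp hs]
  intro h1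
  have h2 : ω ^ chevE6.cartan 0 s * (ν ^ 3) ^ chevE6.cartan 1 s * ν ^ chevE6.cartan 3 s * ω ^ chevE6.cartan 5 s = 1 := by
    apply Units.ext
    rw [Units.val_one, ← h1, Fin.prod_univ_six]
    simp [σ]
  have h3 : ν ^ (chevE6.cartan 3 s + 3 * chevE6.cartan 1 s) * ω ^ (chevE6.cartan 0 s + chevE6.cartan 5 s) = 1 := by
    rw [← h2, zpow_add, zpow_add, zpow_mul]
    have h4 : ν ^ (3 : ℤ) = ν ^ 3 := zpow_ofNat ν 3
    rw [h4]
    generalize ω ^ chevE6.cartan 0 s = x1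
    generalize (ν ^ 3) ^ chevE6.cartan 1 s = x2
    generalize ν ^ chevE6.cartan 3 s = x3
    generalize ω ^ chevE6.cartan 5 s = x4
    calc x3 * x2 * (x1 * x4) = (x3 * x2) * x1 * x4 := (mul_assoc _ _ _).symm
      _ = x1 * x2 * x3 * x4 := by rw [mul_comm x3 x2, mul_comm (x2 * x3) x1, ← mul_assoc]
  obtain ⟨k, hk1, hk2⟩ := hk
  refine tabW s hs ⟨k, fun h => hk1 (mem_jL.2 h), hk2⟩ ⟨?_, ?_⟩
  · have h4 : ν ^ ((chevE6.cartan 3 s + 3 * chevE6.cartan 1 s) * 3) = 1 := by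
      have h5 := congrArg (· ^ (3 : ℤ)) h3
      simp only [mul_zpow, one_zpow] at h5
      rw [← zpow_mul, ← zpow_mul, mul_comm (chevE6.cartan 0 s + chevE6.cartan 5 s), zpow_mul ω] at h5
      have h6 : ω ^ (3 : ℤ) = 1 := by rw [zpow_ofNat, ← hω, pow_orderOf_eq_one]
      rwa [h6, one_zpow, mul_one] at h5
    have h5 := orderOf_dvd_iff_zpow_eq_one.2 h4
    rw [hν] at h5
    exact (Int.isCoprime_iff_gcd_eq_one.2 (by decide)).dvd_of_dvd_mul_right h5
  · have h4 : ω ^ ((chevE6.cartan 0 s + chevE6.cartan 5 s) * 7) = 1 := by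
      have h5 := congrArg (· ^ (7 : ℤ)) h3
      simp only [mul_zpow, one_zpow] at h5
      rw [← zpow_mul, ← zpow_mul, mul_comm (chevE6.cartan 3 s + 3 * chevE6.cartan 1 s), zpow_mul ν] at h5
      have h6 : ν ^ (7 : ℤ) = 1 := by rw [zpow_ofNat, ← hν, pow_orderOf_eq_one]
      rwa [h6, one_zpow, one_mul] at h5
    have h5 := orderOf_dvd_iff_zpow_eq_one.2 h4
    rw [hω] at h5
    exact (Int.isCoprime_iff_gcd_eq_one.2 (by decide)).dvd_of_dvd_mul_right h5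

end

/-! ### The field with 64 elements -/

theorem two_zero {F : Type*} [Field F] [CharP F 2] : (2 : F) = 0 := by
  have := CharP.cast_eq_zero F 2
  exact_mod_cast this

theorem pow_ne {F : Type*} [Field F] {ν : Fˣ} {n k : ℕ} (h : orderOf ν = n) (hk : ¬ n ∣ k) : (ν : F) ^ k ≠ 1 := by
  intro h1
  apply hk
  rw [← h, orderOf_dvd_iff_pow_eq_one]
  exact Units.ext (by rw [Units.val_pow_eq_pow_val, h1, Units.val_one])

theorem pow_one' {F : Type*} [Field F] {ν : Fˣ} {n : ℕ} (h : orderOf ν = n) : (ν : F) ^ n = 1 := by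
  rw [← Units.val_pow_eq_pow_val, ← h, pow_orderOf_eq_one, Units.val_one]

theorem exists_field : ∃ (K' : Type) (_ : Field K') (_ : Finite K') (_ : CharP K' 2) (ν ω : K'ˣ),
    orderOf ν = 7 ∧ orderOf ω = 3 ∧ (ν : K') ^ 3 + (ν : K') ^ 2 + 1 = 0 ∧ (ω : K') ^ 2 + (ω : K') + 1 = 0 := by
  have : Fact (Nat.Prime 2) := ⟨Nat.prime_two⟩
  have hfin : Finite (GaloisField 2 6) := inferInstance
  obtain ⟨t, ht⟩ := IsCyclic.exists_ofOrder_eq_natCard (α := (GaloisField 2 6)ˣ)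
  have hc : orderOf t = 63 := by
    rw [ht, Nat.card_units, GaloisField.card 2 6 (by norm_num)]
    norm_num
  have h9 : orderOf (t ^ 9) = 7 := by
    rw [orderOf_pow_of_dvd (by norm_num) (by rw [hc]; norm_num), hc]
  have h21 : orderOf (t ^ 21) = 3 := by
    rw [orderOf_pow_of_dvd (by norm_num) (by rw [hc]; norm_num), hc]
  have h2 : (2 : GaloisField 2 6) = 0 := two_zero
  have hω : ((t ^ 21 : (GaloisField 2 6)ˣ) : GaloisField 2 6) ^ 2 + ((t ^ 21 : (GaloisField 2 6)ˣ) : GaloisField 2 6) +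
      1 = 0 := by
    have h3 := pow_one' h21
    have h4 := pow_ne (k := 1) h21 (by norm_num)
    rw [pow_one] at h4
    refine mul_left_cancel₀ (sub_ne_zero.2 h4) ?_
    rw [mul_zero]
    linear_combination h3
  have hν3 := pow_one' h9
  have hν1 := pow_ne (k := 1) h9 (by norm_num)
  rw [pow_one] at hν1
  set y : GaloisField 2 6 := ((t ^ 9 : (GaloisField 2 6)ˣ) : GaloisField 2 6) with hy
  have h5 : (y ^ 3 + y + 1) * (y ^ 3 + y ^ 2 + 1) = 0 := by
    refine mul_left_cancel₀ (sub_ne_zero.2 hν1) ?_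
    rw [mul_zero]
    linear_combination hν3 + (y ^ 4 - y ^ 3) * h2
  rcases mul_eq_zero.1 h5 with h6 | h6
  · refine ⟨GaloisField 2 6, inferInstance, hfin, inferInstance, (t ^ 9)⁻¹, t ^ 21, by rw [orderOf_inv, h9], h21, ?_, hω⟩
    have hy0 : y ≠ 0 := Units.ne_zero _
    rw [Units.val_inv_eq_inv_val, ← hy]
    field_simp
    linear_combination h6
  · exact ⟨GaloisField 2 6, inferInstance, hfin, inferInstance, t ^ 9, t ^ 21, h9, h21, h6, hω⟩

theorem diag3 {F : Type*} [Field F] [CharP F 2] (ι : ZMod 2 →+* F) {ν : Fˣ} (h7 : orderOf ν = 7)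
    (h : (ν : F) ^ 3 + (ν : F) ^ 2 + 1 = 0) :
    ∃ P : Matrix.SpecialLinearGroup (Fin 3) F,
      Matrix.SpecialLinearGroup.map ι Cfsg.Agent.H584.Ore.Tab.XX0 = P * dg3 ν (ν ^ 3) * P⁻¹ := by
  have h2 : (2 : F) = 0 := two_zero
  have hν0 : (ν : F) ≠ 0 := ν.ne_zero
  have hM : (Matrix.SpecialLinearGroup.map ι Cfsg.Agent.H584.Ore.Tab.XX0).1 = !![0, 0, 1; 0, 1, 1; 1, 1, 0] := by
    change (Cfsg.Agent.H584.Ore.Tab.X0).map ι = _
    ext i j
    fin_cases i <;> fin_cases j <;> simp [Cfsg.Agent.H584.Ore.Tab.X0]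
  have hl : Function.Injective (![(ν : F), (ν : F) ^ 2, (ν : F) ^ 4] : Fin 3 → F) := by
    have e1 := pow_ne (k := 1) h7 (by norm_num)
    have e2 := pow_ne (k := 2) h7 (by norm_num)
    have e3 := pow_ne (k := 3) h7 (by norm_num)
    have g1 : (ν : F) ≠ (ν : F) ^ 2 := fun h => e1 (mul_left_cancel₀ hν0 (by linear_combination -h))
    have g2 : (ν : F) ≠ (ν : F) ^ 4 := fun h => e3 (mul_left_cancel₀ hν0 (by linear_combination -h))
    have g3 : (ν : F) ^ 2 ≠ (ν : F) ^ 4 := fun h => e2 (mul_left_cancel₀ (pow_ne_zero 2 hν0) (by linear_combination -h))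
    intro i j hij
    fin_cases i <;> fin_cases j
    · rfl
    · exact absurd hij g1
    · exact absurd hij g2
    · exact absurd hij.symm g1
    · rfl
    · exact absurd hij g3
    · exact absurd hij.symm g2
    · exact absurd hij.symm g3
    · rfl
  have hc : (!![0, 0, 1; 0, 1, 1; 1, 1, 0] : Matrix (Fin 3) (Fin 3) F).charpoly =
      ∏ i, (X - C ((![(ν : F), (ν : F) ^ 2, (ν : F) ^ 4] : Fin 3 → F) i)) := by
    rw [Matrix.charpoly, Matrix.det_fin_three, Fin.prod_univ_three]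
    have h2' : (2 : Polynomial F) = 0 := (map_ofNat C 2).symm.trans (by rw [h2, map_zero])
    have h' : (C (ν : F)) ^ 3 + (C (ν : F)) ^ 2 + 1 = 0 := by
      have := congrArg (C : F → Polynomial F) h
      simpa using this
    simp
    set n : Polynomial F := C (ν : F)
    linear_combination ((n - 1) * X ^ 2 - n ^ 3 * X + (n ^ 4 - n ^ 3 + n ^ 2 - 2 * n + 3)) * h' +
      (n ^ 2 * X ^ 2 - X - 2 * n ^ 2 + n - 1) * h2'
  obtain ⟨P, hP⟩ := exists_diag hl (M := (Matrix.SpecialLinearGroup.map ι Cfsg.Agent.H584.Ore.Tab.XX0).1)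
    (by rw [hM]; exact hc) (by norm_num)
  refine ⟨P, ?_⟩
  rw [eq_mul_inv_iff_mul_eq]
  apply Subtype.ext
  refine hP.trans ?_
  change _ = P.1 * (dg3 ν (ν ^ 3)).1
  congr 1
  change _ = Matrix.diagonal _
  congr 1
  funext i
  have h7' := pow_one' h7
  fin_cases i
  · rfl
  · simp
    field_simp
  · simp
    field_simp
    linear_combination h7'

theorem diag2 {F : Type*} [Field F] [CharP F 2] (ι : ZMod 2 →+* F) {ω : Fˣ} (h3 : orderOf ω = 3)
    (h : (ω : F) ^ 2 + (ω : F) + 1 = 0) :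
    ∃ Q : Matrix.SpecialLinearGroup (Fin 2) F,
      Matrix.SpecialLinearGroup.map ι Cfsg.Agent.H584.Ore.Tab.w = Q * dd (ω : F) ω.ne_zero * Q⁻¹ := by
  have h2 : (2 : F) = 0 := two_zero
  have hω0 : (ω : F) ≠ 0 := ω.ne_zero
  have hM : (Matrix.SpecialLinearGroup.map ι Cfsg.Agent.H584.Ore.Tab.w).1 = !![1, 1; 1, 0] := by
    change (!![1, 1; 1, 0] : Matrix (Fin 2) (Fin 2) (ZMod 2)).map ι = _
    ext i j
    fin_cases i <;> fin_cases j <;> simp
  have h3' := pow_one' h3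
  have hl : Function.Injective (![(ω : F), (ω : F)⁻¹] : Fin 2 → F) := by
    have e2 := pow_ne (k := 2) h3 (by norm_num)
    have g1 : (ω : F) ≠ (ω : F)⁻¹ := fun h => e2 (by
      have := mul_inv_cancel₀ hω0
      rw [← h] at this
      rw [pow_two, this])
    intro i j hij
    fin_cases i <;> fin_cases j
    · rfl
    · exact absurd hij g1
    · exact absurd hij.symm g1
    · rfl
  have hinv : (ω : F)⁻¹ = (ω : F) ^ 2 := inv_eq_of_mul_eq_one_right (by rw [← h3']; ring)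
  have hc : (!![1, 1; 1, 0] : Matrix (Fin 2) (Fin 2) F).charpoly =
      ∏ i, (X - C ((![(ω : F), (ω : F)⁻¹] : Fin 2 → F) i)) := by
    rw [Matrix.charpoly_fin_two, Fin.prod_univ_two]
    have h2' : (2 : Polynomial F) = 0 := (map_ofNat C 2).symm.trans (by rw [h2, map_zero])
    have h' : (C (ω : F)) ^ 2 + (C (ω : F)) + 1 = 0 := by
      have := congrArg (C : F → Polynomial F) h
      simpa using this
    have h3'' : (C (ω : F)) ^ 3 = 1 := by
      have := congrArg (C : F → Polynomial F) h3'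
      simpa using this
    simp [Matrix.trace_fin_two, Matrix.det_fin_two, hinv]
    set n : Polynomial F := C (ω : F)
    linear_combination (X : Polynomial F) * h' - h3'' - (X + 1) * h2'
  obtain ⟨P, hP⟩ := exists_diag hl (M := (Matrix.SpecialLinearGroup.map ι Cfsg.Agent.H584.Ore.Tab.w).1)
    (by rw [hM]; exact hc) (by norm_num)
  refine ⟨P, ?_⟩
  rw [eq_mul_inv_iff_mul_eq]
  apply Subtype.ext
  refine hP.trans ?_
  change _ = P.1 * !![(ω : F), 0; 0, (ω : F)⁻¹]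
  congr 1
  ext i j
  fin_cases i <;> fin_cases j <;> simp

/-! ### The theorem -/

/-- **No fixed points.** -/
theorem fixJ {φ : Matrix.SpecialLinearGroup (Fin 3) (ZMod 2) →* ↥(chevE6.group (ZMod 2))}
    (hφ : ∀ a b (hab : a ≠ b) c, φ (Matrix.SpecialLinearGroup.transvection hab c) =
      xc Cfsg.Agent.Nodes.KindE.isType6 (vec chevE6 6 (r6 a b)) (((1 : ℤ) : ZMod 2) * c)) :
    NF (VJ CoxeterMatrix.E₆.toCoxeterSystem Cfsg.Agent.Nodes.KindE.isType6.isCartan (XX chevE6 6 (ZMod 2))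
        {0, 1, 3, 5})
      (φ Cfsg.Agent.H584.Ore.Tab.XX0 * (sl Cfsg.Agent.Nodes.KindE.isType6 0 Cfsg.Agent.H584.Ore.Tab.w *
        sl Cfsg.Agent.Nodes.KindE.isType6 5 Cfsg.Agent.H584.Ore.Tab.w)) ∧
    NF (VNJ CoxeterMatrix.E₆.toCoxeterSystem Cfsg.Agent.Nodes.KindE.isType6.isCartan (XX chevE6 6 (ZMod 2))
        {0, 1, 3, 5})
      (φ Cfsg.Agent.H584.Ore.Tab.XX0 * (sl Cfsg.Agent.Nodes.KindE.isType6 0 Cfsg.Agent.H584.Ore.Tab.w *
        sl Cfsg.Agent.Nodes.KindE.isType6 5 Cfsg.Agent.H584.Ore.Tab.w)) := by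
  have hp := Cfsg.Agent.Nodes.KindE.isType6
  obtain ⟨K', _, _, _, ν, ω, h7, h3, hν, hω⟩ := exists_field
  let ι : ZMod 2 →+* K' := ZMod.castHom (dvd_refl 2) K'
  obtain ⟨P, hP⟩ := diag3 ι h7 hν
  obtain ⟨Q, hQ⟩ := diag2 ι h3 hω
  obtain ⟨φ', hφ'⟩ := Cfsg.Agent.H162.GaussExcMain.exists_hom_D hp (K := K') (ε := 1) (by norm_num)
    Cfsg.Agent.H162.GaussExcMain.rt6.1 Cfsg.Agent.H162.GaussExcMain.rt6.2.1 Cfsg.Agent.H162.GaussExcMain.rt6.2.2.1
    Cfsg.Agent.H162.GaussExcMain.rt6.2.2.2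
  obtain ⟨g1, g2⟩ := nf_big hp hφ' h7 h3 P Q
  have e : bc chevE6 ι (φ Cfsg.Agent.H584.Ore.Tab.XX0 * (sl hp 0 Cfsg.Agent.H584.Ore.Tab.w *
      sl hp 5 Cfsg.Agent.H584.Ore.Tab.w)) = φ' (P * dg3 ν (ν ^ 3) * P⁻¹) *
        (sl hp 0 (Q * dd (ω : K') ω.ne_zero * Q⁻¹) * sl hp 5 (Q * dd (ω : K') ω.ne_zero * Q⁻¹)) := by
    rw [map_mul, map_mul, bc_sl, bc_sl, bc_phi hp ι (fun a b hab => (tabR.1 a b hab).1) hφ hφ', hP, hQ]
  rw [← e] at g1 g2
  exact ⟨NF.of_hom _ (bc_injective chevE6 ι) (VJ_le_comap hp ι _) g1,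
    NF.of_hom _ (bc_injective chevE6 ι) (VNJ_le_comap hp ι _) g2⟩

end Cfsg.Agent.H267.Ore.ESix
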