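import Cfsg.Agent.H934.MF.TwoT7
import Cfsg.Agent.H335.Sr.Symm

/-!
# `SL_7` over the field with two elements (helper267; Ore's conjecture and four involutions for `E₇(2)`)
-/

set_option autoImplicit false

namespace Cfsg.Agent.H267.Ore

open Matrix Polynomial Module
open Cfsg.Agent.H934.MF Cfsg.Agent.H71.CovScal Cfsg.Agent.H166.Cov

universe u

variable {K : Type u} [Field K]

/-- matrices with the same irreducible characteristic polynomial are conjugate -/
theorem exists_conj {n : ℕ} {X Y : Matrix (Fin n) (Fin n) K} (hirr : Irreducible X.charpoly)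
    (h : Y.charpoly = X.charpoly) : ∃ P : Matrix (Fin n) (Fin n) K, IsUnit P.det ∧ P * X = Y * P := by
  have h1 : Sim (Matrix.toLin' X) (Matrix.toLin' Y) := by
    refine sim_of_irreducible hirr ?_ ?_ rfl
    · have := LinearMap.aeval_self_charpoly (Matrix.toLin' X)
      rwa [Matrix.charpoly_toLin'] at this
    · have := LinearMap.aeval_self_charpoly (Matrix.toLin' Y)
      rwa [Matrix.charpoly_toLin', h] at this
  obtain ⟨e, he⟩ := h1
  refine ⟨LinearMap.toMatrix' (e : (Fin n → K) →ₗ[K] (Fin n → K)), ?_, ?_⟩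
  · rw [LinearMap.det_toMatrix']
    exact LinearEquiv.isUnit_det' e
  · apply Matrix.toLin'.injective
    rw [Matrix.toLin'_mul, Matrix.toLin'_mul, Matrix.toLin'_toMatrix']
    exact LinearMap.ext he

variable [Fintype K]

theorem eq_one_of_ne_zero (hK : Fintype.card K = 2) {x : K} (hx : x ≠ 0) : x = 1 := by
  have h1 := FiniteField.pow_card_sub_one_eq_one x hx
  rwa [hK, pow_one] at h1

theorem det_eq_one (hK : Fintype.card K = 2) {n : ℕ} {P : Matrix (Fin n) (Fin n) K} (h : IsUnit P.det) : P.det = 1 :=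
  eq_one_of_ne_zero hK h.ne_zero

theorem exists_conj_SL (hK : Fintype.card K = 2) {n : ℕ} {X Y : SpecialLinearGroup (Fin n) K}
    (hirr : Irreducible X.1.charpoly) (h : Y.1.charpoly = X.1.charpoly) :
    ∃ P : SpecialLinearGroup (Fin n) K, Y = P * X * P⁻¹ := by
  obtain ⟨P, hP, e⟩ := exists_conj hirr h
  obtain ⟨Q, rfl⟩ : ∃ Q : SpecialLinearGroup (Fin n) K, Q.1 = P := ⟨⟨P, det_eq_one hK hP⟩, rfl⟩
  have h1 : Q * X = Y * Q := Subtype.ext e
  exact ⟨Q, by rw [h1]; group⟩

theorem pow_127 (hK : Fintype.card K = 2) {X : SpecialLinearGroup (Fin 7) K} (hirr : Irreducible X.1.charpoly) :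
    X ^ 127 = 1 := by
  have h1 := pow_eq_det (F := K) (V := Fin 7 → K) (T := Matrix.toLin' X.1) (by rwa [Matrix.charpoly_toLin'])
  rw [Fin.sum_univ_eq_sum_range (fun i => Nat.card K ^ i), Module.finrank_fin_fun, Nat.card_eq_fintype_card, hK,
    LinearMap.det_toLin', X.2, one_smul, ← Matrix.toLin'_pow] at h1
  have h2 : (∑ i ∈ Finset.range 7, 2 ^ i : ℕ) = 127 := by decide
  rw [h2] at h1
  have h3 : X.1 ^ 127 = 1 := by
    apply Matrix.toLin'.injective
    rw [h1]
    exact Matrix.toLin'_one.symm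
  exact Subtype.ext ((Matrix.SpecialLinearGroup.coe_pow X 127).trans h3)

/-- **Products in `SL_7(2)`.** -/
theorem exists_prod_seven (hK : Fintype.card K = 2) : ∃ f : K[X], Irreducible f ∧
    ∀ A : SpecialLinearGroup (Fin 7) K, A ≠ 1 → ∃ X Y : SpecialLinearGroup (Fin 7) K, A = X * Y ∧
      X.1.charpoly = f ∧ Y.1.charpoly = f := by
  classical
  have : Fact (Nat.Prime 2) := ⟨Nat.prime_two⟩
  let σ : ZMod 2 ≃+* K := ZMod.ringEquivOfPrime K Nat.prime_two hK
  refine ⟨(mono (zl lSeven)).map (σ : ZMod 2 →+* K), ?_, fun A hA => ?_⟩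
  · have h1 := (MulEquiv.irreducible_iff (Polynomial.mapEquiv σ)).2 irrSeven
    exact h1
  · have hdet : (A.1.map σ.symm).det ≠ 0 := by
      have h1 : (A.1.map σ.symm).det = σ.symm A.1.det := by
        exact (RingHom.map_det (σ.symm : K →+* ZMod 2) A.1).symm
      rw [h1, A.2, map_one]
      exact one_ne_zero
    have hne : A.1.map σ.symm ≠ 1 := by
      intro h
      apply hA
      have h2 : (A.1.map σ.symm).map σ = (1 : Matrix (Fin 7) (Fin 7) (ZMod 2)).map σ := by rw [h]
      rw [Matrix.map_map, Matrix.map_one σ (map_zero σ) (map_one σ)] at h2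
      have h3 : A.1 = 1 := by
        rw [← h2]
        ext i j
        simp
      exact Subtype.ext h3
    obtain ⟨X, Y, e, hX, hY⟩ := prodSeven _ hdet hne
    have hXY : X.map σ * Y.map σ = A.1 := by
      have h3 : (X * Y).map σ = X.map σ * Y.map σ := Matrix.map_mul (f := (σ : ZMod 2 →+* K))
      rw [← h3, ← e, Matrix.map_map]
      ext i j
      simp
    have hd : (X.map σ).det * (Y.map σ).det = 1 := by rw [← det_mul, hXY, A.2]
    refine ⟨⟨X.map σ, eq_one_of_ne_zero hK (left_ne_zero_of_mul_eq_one hd)⟩,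
      ⟨Y.map σ, eq_one_of_ne_zero hK (right_ne_zero_of_mul_eq_one hd)⟩, Subtype.ext hXY.symm, ?_, ?_⟩
    · rw [← hX]
      exact Matrix.charpoly_map X (σ : ZMod 2 →+* K)
    · rw [← hY]
      exact Matrix.charpoly_map Y (σ : ZMod 2 →+* K)

/-- the kernel of a nontrivial homomorphism contains no element of the class -/
theorem ne_one_of_class (hK : Fintype.card K = 2) {f : K[X]} (hf : Irreducible f)
    (hprod : ∀ A : SpecialLinearGroup (Fin 7) K, A ≠ 1 → ∃ X Y : SpecialLinearGroup (Fin 7) K, A = X * Y ∧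
      X.1.charpoly = f ∧ Y.1.charpoly = f) {Y : Type*} [Group Y] {φ : SpecialLinearGroup (Fin 7) K →* Y}
    (hφ : ∃ A, φ A ≠ 1) {X : SpecialLinearGroup (Fin 7) K} (hX : X.1.charpoly = f) : φ X ≠ 1 := by
  intro h1
  obtain ⟨A, hA⟩ := hφ
  have key : ∀ Z : SpecialLinearGroup (Fin 7) K, Z.1.charpoly = f → φ Z = 1 := by
    intro Z hZ
    obtain ⟨P, rfl⟩ := exists_conj_SL hK (X := X) (by rw [hX]; exact hf) (hZ.trans hX.symm)
    rw [map_mul, map_mul, h1, mul_one, map_inv, mul_inv_cancel]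
  obtain ⟨Z, Z', rfl, hZ, hZ'⟩ := hprod A (fun h => hA (by rw [h, map_one]))
  apply hA
  rw [map_mul, key Z hZ, key Z' hZ', mul_one]

end Cfsg.Agent.H267.Ore
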