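import Cfsg.Agent.H267.Ore.TabE7
import Cfsg.Agent.H267.Ore.LinTwo
import Cfsg.Agent.H335.Sr.Chev
import Cfsg.Agent.H928.Ore.Frame
import Cfsg.Agent.H129.CycT2
import Cfsg.Agent.H777.Ore.Base
import Cfsg.Agent.Nodes.PosPair

/-!
# `E₇(2)`: all elements are commutators and products of four elements of square one (helper267; S2443, S4171)

`c = φ(X)`, `X ∈ SL_7(2)` irreducible, has order `127` and the centraliser of every element of order `127` is cyclic of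
order `127`, hence `c` has no fixed points on the unipotent radicals of the parabolic subgroup of type `A₆`.  The longest
element `w₀ = -1` and a symmetric intertwiner of `X` give an involution inverting `c`.
-/

set_option autoImplicit false
set_option linter.unusedSectionVars false

namespace Cfsg.Agent.H267.Ore

open CoxeterSystem Cfsg.Agent.ChevalleyStructure.CoxeterGeom Cfsg.Agent.Tits.Roots Cfsg.Agent.Tits.Core
  Cfsg.Agent.Nodes.Reps Cfsg.Agent.Nodes.BNOf Cfsg.Agent.Nodes.StabComb Cfsg.Agent.Nodes.RGDLib Cfsg.Agent.Nodes.Bruhat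
  Cfsg.Agent.Nodes.OppDec Cfsg.Agent.Nodes.LeviDec Cfsg.Agent.Nodes.KindChev Cfsg.Agent.Nodes.ChevCls
  Cfsg.Agent.OddHalf.NI.ModelChev
  Cfsg.Agent.H162.GaussDec Cfsg.Agent.H162.GaussLevi Cfsg.Agent.H162.GaussSL
  Cfsg.Agent.H162.GaussMain Cfsg.Agent.H162.GaussExc Cfsg.Agent.H162.GaussExcMain
open Cfsg.Lie Cfsg.Agent.ChevalleyStructure Cfsg.Agent.ChevalleyStructure.Elts
  Cfsg.Agent.ChevalleyStructure.RootVec Cfsg.Agent.ChevalleyStructure.NPerm
  Cfsg.Agent.ChevalleyStructure.CoxeterGeomTypes Cfsg.Agent.Nodes.RGDChev Cfsg.Agent.KFacts.RgdChevCoord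
open Cfsg.Agent.H129.CycT Cfsg.Agent.H335.Sr Cfsg.Agent.H777.Ore Cfsg.Agent.H928.Ore.Frame

universe u

/-! ### Elements of order `r` -/

/-- an exact cyclic torus of prime order: elements commuting with an element of order `r` have `x ^ r = 1` -/
theorem pow_of_exact {G : Type*} [Group G] [Finite G] {r : ℕ} [hr : Fact r.Prime] (h : CycExact G r) {c x : G}
    (hc : c ^ r = 1) (hc1 : c ≠ 1) (hx : c * x * c⁻¹ = x) : x ^ r = 1 := by
  obtain ⟨T, hT, hTm, hTc⟩ := h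
  have hTp : IsPGroup r ↥T := IsPGroup.of_card (n := 1) (by rw [hTm, pow_one])
  obtain ⟨P, hP⟩ := hTp.exists_le_sylow
  obtain ⟨y, hy, hy1⟩ : ∃ y ∈ T, y ≠ 1 := by
    have : Nontrivial ↥T := Finite.one_lt_card_iff_nontrivial.1 (by rw [hTm]; exact hr.out.one_lt)
    obtain ⟨y, hy⟩ := exists_ne (1 : ↥T)
    exact ⟨y, y.2, fun h => hy (Subtype.ext h)⟩
  have hPT : (P : Subgroup G) ≤ T := by
    have hPp := P.isPGroup'
    have : Nontrivial ↥(P : Subgroup G) := ⟨⟨⟨y, hP hy⟩, 1, fun h => hy1 (congrArg Subtype.val h)⟩⟩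
    have : Nontrivial (Subgroup.center ↥(P : Subgroup G)) := hPp.center_nontrivial
    obtain ⟨z, hz⟩ := exists_ne (1 : Subgroup.center ↥(P : Subgroup G))
    obtain ⟨⟨z, hzP⟩, hzc⟩ := z
    have hz1 : z ≠ 1 := fun h => hz (Subtype.ext (Subtype.ext h))
    have hzc' : ∀ g ∈ (P : Subgroup G), g * z = z * g := fun g hg =>
      congrArg Subtype.val (Subgroup.mem_center_iff.1 hzc ⟨g, hg⟩)
    have hzT : z ∈ T := by
      rw [← hTc y hy hy1, Subgroup.mem_centralizer_singleton_iff]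
      exact (hzc' y (hP hy)).symm
    intro g hg
    rw [← hTc z hzT hz1, Subgroup.mem_centralizer_singleton_iff]
    exact hzc' g hg
  have hcp : IsPGroup r ↥(Subgroup.zpowers c) := by
    rintro ⟨a, k, rfl⟩
    refine ⟨1, Subtype.ext ?_⟩
    change (c ^ k) ^ r ^ 1 = 1
    rw [pow_one, ← zpow_natCast, ← zpow_mul, mul_comm, zpow_mul, zpow_natCast, hc, one_zpow]
  obtain ⟨Q, hQ⟩ := hcp.exists_le_sylow
  obtain ⟨g, hg⟩ := MulAction.exists_smul_eq G P Q
  have h1 : c ∈ (Q : Subgroup G) := hQ (Subgroup.mem_zpowers c)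
  rw [← hg, Sylow.coe_subgroup_smul] at h1
  obtain ⟨d, hd, hdc⟩ := h1
  have hdc' : g * d * g⁻¹ = c := hdc
  have hd1 : d ≠ 1 := by
    rintro rfl
    exact hc1 (by rw [← hdc']; group)
  have h2 : g⁻¹ * x * g ∈ Subgroup.centralizer {d} := by
    rw [Subgroup.mem_centralizer_singleton_iff]
    have h3 : c * x = x * c := by rw [mul_inv_eq_iff_eq_mul] at hx; exact hx
    rw [← hdc'] at h3
    calc g⁻¹ * x * g * d = g⁻¹ * (x * (g * d * g⁻¹)) * g := by group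
      _ = g⁻¹ * (g * d * g⁻¹ * x) * g := by rw [h3]
      _ = d * (g⁻¹ * x * g) := by group
  rw [hTc d (hPT hd) hd1] at h2
  have h3 : (⟨g⁻¹ * x * g, h2⟩ : ↥T) ^ r = 1 := by rw [← hTm]; exact pow_card_eq_one'
  have h4 : (g⁻¹ * x * g) ^ r = 1 := congrArg Subtype.val h3
  have h5 : g⁻¹ * x * g = g⁻¹ * x * g⁻¹⁻¹ := by rw [inv_inv]
  rw [h5, conj_pow, conj_eq_one_iff] at h4
  exact h4

/-- no fixed points on `p`-subgroups -/
theorem nf_of_exact {G : Type*} [Group G] [Finite G] {r p : ℕ} [hr : Fact r.Prime] [hp : Fact p.Prime] (hne : r ≠ p)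
    (h : CycExact G r) {c : G} (hc : c ^ r = 1) (hc1 : c ≠ 1) {V : Subgroup G} (hV : IsPGroup p ↥V) : NF V c := by
  intro x hx hcx
  have h1 := pow_of_exact h hc hc1 hcx
  obtain ⟨k, hk⟩ := hV ⟨x, hx⟩
  have h2 : x ^ p ^ k = 1 := congrArg Subtype.val hk
  have h3 : orderOf x ∣ r := orderOf_dvd_of_pow_eq_one h1
  have h4 : orderOf x ∣ p ^ k := orderOf_dvd_of_pow_eq_one h2
  have h5 : Nat.Coprime r (p ^ k) := ((Nat.coprime_primes hr.out hp.out).2 hne).pow_right k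
  exact orderOf_eq_one_iff.1 (Nat.dvd_one.1 (h5 ▸ Nat.dvd_gcd h3 h4))

/-- an element inverted by an element of square one is a product of two elements of square one -/
theorem two_of_inv {G : Type*} [Group G] {c t : G} (ht : t * t = 1) (htc : t * c * t⁻¹ = c⁻¹) :
    ∃ a b : G, a ^ 2 = 1 ∧ b ^ 2 = 1 ∧ c = a * b := by
  refine ⟨c * t, t, ?_, by rw [pow_two, ht], by rw [mul_assoc, ht, mul_one]⟩
  have hti : t⁻¹ = t := inv_eq_of_mul_eq_one_left ht
  calc (c * t) ^ 2 = c * (t * c * t⁻¹) * (t * t) := by rw [pow_two]; group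
    _ = 1 := by rw [htc, ht]; group

/-! ### The group -/

section

variable {K : Type u} [Field K] [Fintype K]

theorem exists_wneg (hp : IsType chevE7 7 CoxeterMatrix.E₇) {W : Type*} [Group W]
    (cs : CoxeterSystem CoxeterMatrix.E₇ W) : ∃ w : W, ∀ x : Fin 7 → ℤ, rep cs hp.isCartan w x = -x := by
  refine ⟨cs.wordProd w7, fun x => ?_⟩
  have h1 : rep cs hp.isCartan (cs.wordProd w7) = - LinearMap.id := by
    refine LinearMap.pi_ext' fun i => ?_
    refine LinearMap.ext_ring ?_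
    change rep cs hp.isCartan (cs.wordProd w7) (Pi.single i 1) = - (Pi.single i 1)
    have h2 : (Pi.single i 1 : Fin 7 → ℤ) = vec chevE7 7 (chevE7.simple i) := (vec_simple hp i).symm
    have h3 := simple_lt hp.inList (lt_rank hp i)
    rw [h2, ← fr_vec hp cs w7 h3, w7_neg, vec_neg hp h3]
  rw [h1]
  rfl

theorem isPGroup_UN {I W Y : Type*} [Fintype I] [DecidableEq I] [Group W] [Group Y] {M : CoxeterMatrix I}
    {cs : CoxeterSystem M W} {A : I → I → ℤ} {h : IsCartan M A} {p : ℕ} {T : Subgroup Y} {n : I → Y}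
    {X : (I → ℤ) → Subgroup Y} [Finite W] (R : RGD cs h p T n X) {w : W} (hw : ∀ x, rep cs h w x = -x) :
    IsPGroup p ↥(UN cs h X) :=
  Cfsg.Agent.Nodes.PosPair.isPGroup_of_rep R w fun x hx => ⟨hx.1, by rw [hw]; exact neg_nonneg.2 hx.2⟩

/-- **The data for `E₇(2)`.** -/
theorem key (hK : Fintype.card K = 2) [Fact (Nat.Prime 2)] [CharP K 2] :
    ∀ v ∈ UNJ CoxeterMatrix.E₇.toCoxeterSystem Cfsg.Agent.Nodes.KindE.isType7.isCartan (XX chevE7 7 K) {k | k ∈ jS},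
    ∀ u ∈ UJ CoxeterMatrix.E₇.toCoxeterSystem Cfsg.Agent.Nodes.KindE.isType7.isCartan (XX chevE7 7 K) {k | k ∈ jS},
    ∃ c₁ c₂, v * u = c₁ * c₂ ∧
      LP CoxeterMatrix.E₇.toCoxeterSystem Cfsg.Agent.Nodes.KindE.isType7.isCartan (TT chevE7 K) (XX chevE7 7 K)
        {k | k ∈ jS} c₁ c₂ ∧ (∃ y, c₂ = y * c₁⁻¹ * y⁻¹) ∧
      (∃ a b : ↥(chevE7.group K), a ^ 2 = 1 ∧ b ^ 2 = 1 ∧ c₁ = a * b) ∧
      (∃ a b : ↥(chevE7.group K), a ^ 2 = 1 ∧ b ^ 2 = 1 ∧ c₂ = a * b) ∧ c₁ ^ 127 = 1 ∧ c₂ ^ 127 = 1 := by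
  have hp := Cfsg.Agent.Nodes.KindE.isType7
  have := finite_W hp CoxeterMatrix.E₇.toCoxeterSystem
  have R := rgd (K := K) hp CoxeterMatrix.E₇.toCoxeterSystem 2
  obtain ⟨φ, hφ⟩ := exists_hom_D hp (K := K) (ε := -1) (by norm_num) rtS.1 rtS.2.1 rtS.2.2.1 rtS.2.2.2
  have TB := chkS1.tab chkS2
  have hε : ∀ a b : Fin 7, (fun _ _ : Fin 7 => (((-1 : ℤ)) : K)) a b ≠ 0 := fun _ _ => by simp
  have hφ' : ∀ a b (hab : a ≠ b) c, φ (Matrix.SpecialLinearGroup.transvection hab c) =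
      xc hp (vec chevE7 7 (rS a b)) ((fun _ _ : Fin 7 => (((-1 : ℤ)) : K)) a b * c) := hφ
  have hUJ : UJ CoxeterMatrix.E₇.toCoxeterSystem hp.isCartan (XX chevE7 7 K) {k | k ∈ jS} ≤ (UT 7 K).map φ :=
    RGD.Sup_le fun r hr => up_phi hp TB hε hφ' r hr
  have hUNJ : UNJ CoxeterMatrix.E₇.toCoxeterSystem hp.isCartan (XX chevE7 7 K) {k | k ∈ jS} ≤ (LT 7 K).map φ :=
    RGD.Sup_le fun r hr => by
      have := lo_phi hp TB hε hφ' (-r) hr
      rwa [_root_.neg_neg] at this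
  obtain ⟨f, hf, hprod⟩ := exists_prod_seven hK
  -- the involution
  obtain ⟨w, hw⟩ := exists_wneg hp CoxeterMatrix.E₇.toCoxeterSystem
  have hN : NSys CoxeterMatrix.E₇ (TT chevE7 K) (nc hp K) := R.nsys
  obtain ⟨ε, z, Z⟩ := exists_ZD_neg hp CoxeterMatrix.E₇.toCoxeterSystem (K := K) hN hw
  have hinv : ∀ X : Matrix.SpecialLinearGroup (Fin 7) K, X.1.charpoly = f →
      ∃ t : ↥(chevE7.group K), t * t = 1 ∧ t * φ X * t⁻¹ = (φ X)⁻¹ := by
    intro X hX
    obtain ⟨S, h1, h2⟩ := Z.inv_block (n := 5) (r := rS) (s := fun _ _ => ((-1 : ℤ) : K)) (φ := φ)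
      rtS.1 rtS.2.2.2 (fun a b hab => hw _) (fun a b _ => by simp) hφ' (fun i => rfl) (s₀ := 1) (one_mem _)
      (fun i => rfl) (fun A => by rw [one_mul, mul_one]) (X := X)
      (fun δ hδ => exists_symm X.1 (by rw [hX]; exact hf) δ)
    rw [one_mul] at h2
    exact ⟨_, h1, h2⟩
  -- fixed points
  have : Fact (Nat.Prime 127) := ⟨by norm_num⟩
  have hex : CycExact ↥(chevE7.group K) 127 := exact_E7_7 hK (by norm_num) (N := 127) (by norm_num)
  have hφ1 : ∃ A, φ A ≠ 1 := by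
    refine ⟨Matrix.SpecialLinearGroup.transvection (show (0 : Fin 7) ≠ 1 by decide) 1, fun h => ?_⟩
    have h01 := rtS.1 0 1 (by decide)
    rw [hφ, ← xc_zero hp h01] at h
    have h2 := xc_inj hp h01 h
    revert h2
    simp
  have hVU := R.isPGroup_Upos.to_le (VJ_le_U (cs := CoxeterMatrix.E₇.toCoxeterSystem) (h := hp.isCartan)
    (X := XX chevE7 7 K) {k | k ∈ jS})
  have hVN := (isPGroup_UN R hw).to_le
    (VNJ_le_UN (cs := CoxeterMatrix.E₇.toCoxeterSystem) (h := hp.isCartan) (X := XX chevE7 7 K) {k | k ∈ jS})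
  have hpow : ∀ X : Matrix.SpecialLinearGroup (Fin 7) K, X.1.charpoly = f → (φ X) ^ 127 = 1 := by
    intro X hX
    rw [← map_pow, pow_127 hK (by rw [hX]; exact hf), map_one]
  have hnf : ∀ X : Matrix.SpecialLinearGroup (Fin 7) K, X.1.charpoly = f →
      NF (VNJ CoxeterMatrix.E₇.toCoxeterSystem hp.isCartan (XX chevE7 7 K) {k | k ∈ jS}) (φ X) ∧
      NF (VJ CoxeterMatrix.E₇.toCoxeterSystem hp.isCartan (XX chevE7 7 K) {k | k ∈ jS}) (φ X) := by
    intro X hX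
    have h1 := hpow X hX
    have h2 : φ X ≠ 1 := ne_one_of_class hK hf hprod hφ1 hX
    exact ⟨nf_of_exact (by norm_num) hex h1 h2 hVN, nf_of_exact (by norm_num) hex h1 h2 hVU⟩
  have hmem := phi_mem hp TB hφ'
  -- products
  have main : ∀ A : Matrix.SpecialLinearGroup (Fin 7) K, ∃ c₁ c₂, φ A = c₁ * c₂ ∧
      LP CoxeterMatrix.E₇.toCoxeterSystem hp.isCartan (TT chevE7 K) (XX chevE7 7 K) {k | k ∈ jS} c₁ c₂ ∧
      (∃ y, c₂ = y * c₁⁻¹ * y⁻¹) ∧
      (∃ a b : ↥(chevE7.group K), a ^ 2 = 1 ∧ b ^ 2 = 1 ∧ c₁ = a * b) ∧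
      (∃ a b : ↥(chevE7.group K), a ^ 2 = 1 ∧ b ^ 2 = 1 ∧ c₂ = a * b) ∧ c₁ ^ 127 = 1 ∧ c₂ ^ 127 = 1 := by
    intro A
    by_cases hA : A = 1
    · obtain ⟨A', hA'⟩ := hφ1
      obtain ⟨X, -, -, hX, -⟩ := hprod A' (fun h => hA' (by rw [h, map_one]))
      obtain ⟨t, ht, htX⟩ := hinv X hX
      have htX' : t * (φ X)⁻¹ * t⁻¹ = (φ X)⁻¹⁻¹ := by
        calc t * (φ X)⁻¹ * t⁻¹ = (t * φ X * t⁻¹)⁻¹ := by group
          _ = _ := by rw [htX]
      refine ⟨φ X, (φ X)⁻¹, by rw [hA, map_one, mul_inv_cancel], ⟨hmem X, inv_mem (hmem X), (hnf X hX).1, ?_⟩,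
        ⟨1, by group⟩, two_of_inv ht htX, two_of_inv ht htX', hpow X hX, by rw [inv_pow, hpow X hX, inv_one]⟩
      intro x hx hcx
      refine (hnf X hX).2 x hx ?_
      calc φ X * x * (φ X)⁻¹ = φ X * ((φ X)⁻¹ * x * (φ X)⁻¹⁻¹) * (φ X)⁻¹ := by rw [hcx]
        _ = x := by group
    · obtain ⟨X, Y, rfl, hX, hY⟩ := hprod A hA
      obtain ⟨t, ht, htX⟩ := hinv X hX
      obtain ⟨t', ht', htY⟩ := hinv Y hY
      obtain ⟨P, hP⟩ := exists_conj_SL hK (X := X) (Y := Y) (by rw [hX]; exact hf) (hY.trans hX.symm)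
      refine ⟨φ X, φ Y, map_mul φ X Y, ⟨hmem X, hmem Y, (hnf X hX).1, (hnf Y hY).2⟩, ⟨φ P * t⁻¹, ?_⟩,
        two_of_inv ht htX, two_of_inv ht' htY, hpow X hX, hpow Y hY⟩
      rw [hP, map_mul, map_mul, map_inv, ← htX]
      group
  intro v hv u hu
  obtain ⟨L, hL, rfl⟩ := hUNJ hv
  obtain ⟨U, hU', rfl⟩ := hUJ hu
  rw [← map_mul]
  exact main (L * U)

theorem card_two_charP (hK : Fintype.card K = 2) : CharP K 2 := by
  obtain ⟨p, hp⟩ := CharP.exists K
  have hpp : p.Prime := (CharP.char_is_prime_or_zero K p).resolve_right (CharP.char_ne_zero_of_finite K p)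
  have : Fact p.Prime := ⟨hpp⟩
  obtain ⟨n, -, hn⟩ := FiniteField.card K p
  rw [hK] at hn
  have h1 : p ∣ 2 := by rw [hn]; exact dvd_pow_self p n.pos.ne'
  have h2 := (Nat.prime_dvd_prime_iff_eq hpp Nat.prime_two).1 h1
  rwa [h2] at hp

theorem not_core {p : ℕ} [Fact p.Prime] [CharP K p] {g : ↥(chevE7.group K)} (hg : g ≠ 1) :
    g ∉ (RGD.B CoxeterMatrix.E₇.toCoxeterSystem Cfsg.Agent.Nodes.KindE.isType7.isCartan (TT chevE7 K)
      (XX chevE7 7 K)).normalCore := by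
  have hp := Cfsg.Agent.Nodes.KindE.isType7
  have := finite_W hp CoxeterMatrix.E₇.toCoxeterSystem
  have R := rgd (K := K) hp CoxeterMatrix.E₇.toCoxeterSystem p
  have hsim := Cfsg.Agent.S1054.result (F := K) chevE7 (by simp)
  have := hsim.1
  intro h1
  have h2 := core_le_ker R (MonoidHom.id ↥(chevE7.group K)) Function.surjective_id (fun x hx => by
    rw [MonoidHom.mem_ker] at hx
    change x = 1 at hx
    rw [hx]
    exact one_mem _) h1
  exact hg h2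

/-- **Ore's theorem for `E₇(2)`.** -/
theorem allC_E7_two (hK : Fintype.card K = 2) : AllC ↥(chevE7.group K) := by
  have : Fact (Nat.Prime 2) := ⟨Nat.prime_two⟩
  have : CharP K 2 := card_two_charP hK
  have hp := Cfsg.Agent.Nodes.KindE.isType7
  have := finite_W hp CoxeterMatrix.E₇.toCoxeterSystem
  intro g
  by_cases hg : g = 1
  · rw [hg]; exact isC_one
  · exact comm (rgd (K := K) hp CoxeterMatrix.E₇.toCoxeterSystem 2) (G1_eq_top hp _) (coord hp)
      (Cfsg.Agent.Nodes.ChevChart.irr_of Cfsg.Agent.Nodes.ChevChart.irr7)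
      (fun v hv u hu => by
        obtain ⟨c₁, c₂, h1, h2, h3, -, -, -, -⟩ := key hK v hv u hu
        exact ⟨c₁, c₂, h1, h2, h3⟩) (not_core (p := 2) hg)

/-- **`E₇(2)`: every element is a product of four elements of square one.** -/
theorem inv4_E7_two (hK : Fintype.card K = 2) : Inv4 ↥(chevE7.group K) := by
  have : Fact (Nat.Prime 2) := ⟨Nat.prime_two⟩
  have : CharP K 2 := card_two_charP hK
  have hp := Cfsg.Agent.Nodes.KindE.isType7
  have := finite_W hp CoxeterMatrix.E₇.toCoxeterSystem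
  intro g
  by_cases hg : g = 1
  · exact ⟨1, 1, 1, 1, by simp, by simp, by simp, by simp, by simp [hg]⟩
  · obtain ⟨a, b, c, d, ha, hb, hc, hd, e⟩ := four (rgd (K := K) hp CoxeterMatrix.E₇.toCoxeterSystem 2)
      (G1_eq_top hp _) (coord hp) (Cfsg.Agent.Nodes.ChevChart.irr_of Cfsg.Agent.Nodes.ChevChart.irr7)
      (fun v hv u hu => by
        obtain ⟨c₁, c₂, h1, h2, -, h4, h5, -, -⟩ := key hK v hv u hu
        exact ⟨c₁, c₂, h1, h2, h4, h5⟩) (not_core (p := 2) hg)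
    exact ⟨a, b, c, d, by rw [← pow_two, ha], by rw [← pow_two, hb], by rw [← pow_two, hc], by rw [← pow_two, hd], e⟩

/-- **`E₇(2)`: every element is a product of two elements of order dividing `127`.** -/
theorem pair_E7_two (hK : Fintype.card K = 2) (g : ↥(chevE7.group K)) :
    ∃ a b : ↥(chevE7.group K), g = a * b ∧ a ^ 127 = 1 ∧ b ^ 127 = 1 := by
  have : Fact (Nat.Prime 2) := ⟨Nat.prime_two⟩
  have : CharP K 2 := card_two_charP hK
  have hp := Cfsg.Agent.Nodes.KindE.isType7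
  have := finite_W hp CoxeterMatrix.E₇.toCoxeterSystem
  by_cases hg : g = 1
  · exact ⟨1, 1, by rw [hg, mul_one], one_pow _, one_pow _⟩
  · obtain ⟨c₁, c₂, x, y, ⟨h1, h2⟩, e⟩ := pair (rgd (K := K) hp CoxeterMatrix.E₇.toCoxeterSystem 2)
      (G1_eq_top hp _) (coord hp) (Cfsg.Agent.Nodes.ChevChart.irr_of Cfsg.Agent.Nodes.ChevChart.irr7)
      (Pr := fun c₁ c₂ => c₁ ^ 127 = 1 ∧ c₂ ^ 127 = 1)
      (fun v hv u hu => by
        obtain ⟨c₁, c₂, h1, h2, -, -, -, h6, h7⟩ := key hK v hv u hu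
        exact ⟨c₁, c₂, h1, h2, h6, h7⟩) (not_core (p := 2) hg)
    exact ⟨_, _, e, by rw [conj_pow, h1, mul_one, mul_inv_cancel], by rw [conj_pow, h2, mul_one, mul_inv_cancel]⟩

end

end Cfsg.Agent.H267.Ore
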