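import Cfsg.Agent.H162.GaussExcMain

/-!
# The block `A₆` of `E₇` (helper267; Ore's conjecture and four involutions for `E₇(2)`)

The tables of the block of type `A₆` on the nodes `0, 2, 3, 4, 5, 6` of `chevE7`.
-/

set_option autoImplicit false

namespace Cfsg.Agent.H267.Ore

open Cfsg.Lie Cfsg.Agent.ChevalleyStructure Cfsg.Agent.Nodes.RGDChev Cfsg.Agent.TitsThree.KExcRT
open Cfsg.Agent.H162.GaussExcMain Cfsg.Agent.H162

/-- the roots of the block `A₆` -/
def rS : Fin 7 → Fin 7 → ℕ := ![![0, 93, 94, 95, 96, 97, 98], ![32, 0, 73, 74, 75, 76, 77],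
  ![31, 52, 0, 69, 70, 71, 72], ![30, 51, 56, 0, 66, 67, 68], ![29, 50, 55, 59, 0, 64, 65],
  ![28, 49, 54, 58, 61, 0, 63], ![27, 48, 53, 57, 60, 62, 0]]

/-- the nodes of the block -/
def jS : List (Fin 7) := [0, 2, 3, 4, 5, 6]

theorem chkS1 : ChkB chevE7 7 jS ![2, 2, 3, 4, 3, 2, 1] w7 5 rS := by decide +kernel

theorem chkS2 : ChkSub chevE7 7 jS 5 rS := by decide +kernel

theorem rtS : RTa chevE7 rS ∧ (RTb chevE7 rS fun _ _ => -1) ∧ RTc chevE7 rS ∧
    ∀ i j, i ≠ j → rS j i = chevE7.neg (rS i j) := by decide +kernel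

theorem w7_neg : ∀ j : Fin 7, GaussExc.fr chevE7 w7 (chevE7.simple j) = chevE7.neg (chevE7.simple j) := by
  decide +kernel

end Cfsg.Agent.H267.Ore
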